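import Groth.Agent.EtStrictAcycLib.Connected
import Groth.Agent.HenselLib.HenselizationExists
import Groth.Agent.S0642

/-!
# Geometric fibres of acyclic morphisms
-/

set_option autoImplicit false
set_option linter.unusedSectionVars false
set_option linter.style.haveILetI false
set_option backward.isDefEq.respectTransparency false
set_option backward.isDefEq.respectTransparency.types false
set_option synthInstance.maxHeartbeats 400000
set_option maxHeartbeats 1000000

universe u

open CategoryTheory CategoryTheory.Limits CategoryTheory.Abelian AlgebraicGeometry Opposite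
open Groth.Agent.EtShLib EtRpushStalkLib

noncomputable section

namespace EtStrictAcycLib

attribute [local instance] EtSliceLib.pullExact

/-- Pulling back a constant sheaf gives a constant sheaf. -/
theorem bijective_toConst {Z T : Scheme.{u}} (p : Z ⟶ T) (M : Type) [AddCommGroup M] (q : ℕ)
    (h : Function.Bijective (EtCore.Hpull p (EtCoh.const T M) q)) :
    Function.Bijective (fun x => (EtCore.Hpull p (EtCoh.const T M) q x).comp
      (Ext.mk₀ (EtCore.pullConst p M).hom) (add_zero q)) :=
  (EtAcycLib.bijective_mk₀_iso_postcomp (EtCore.pullConst p M) q).comp h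

/-- Spectra of purely inseparable extensions. -/
theorem universallyInjective_spec {k Ω : Type u} [Field k] [Field Ω] [Algebra k Ω] [IsPurelyInseparable k Ω] :
    UniversallyInjective (Spec.map (CommRingCat.ofHom (algebraMap k Ω))) := by
  refine ((tfae_universallyInjective _).out 1 0).mp ?_
  intro K instK g₁ g₂ h
  replace h : Spec.map (CommRingCat.ofHom (algebraMap k Ω) ≫ Spec.preimage g₁) =
      Spec.map (CommRingCat.ofHom (algebraMap k Ω) ≫ Spec.preimage g₂) := by
    rw [Spec.map_comp, Spec.map_comp, Spec.map_preimage, Spec.map_preimage]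
    exact h
  have h2 : (Spec.preimage g₁).hom = (Spec.preimage g₂).hom :=
    @IsPurelyInseparable.injective_comp_algebraMap k Ω _ _ _ _ K instK.toCommRing inferInstance _ _ (congrArg CommRingCat.Hom.hom (Spec.map_injective h))
  rw [← Spec.map_preimage g₁, ← Spec.map_preimage g₂, CommRingCat.hom_ext h2]

theorem specOf_closedPoint (S : Scheme.{u}) (s : S) (R : Type u) [CommRing R] [IsLocalRing R]
    [Algebra (S.presheaf.stalk s) R] [IsLocalHom (algebraMap (S.presheaf.stalk s) R)] :
    (Hens2.specOf S s R).base (IsLocalRing.closedPoint R) = s :=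
  (congrArg (S.fromSpecStalk s).base (IsLocalRing.comap_closedPoint (algebraMap (S.presheaf.stalk s) R))).trans
    Scheme.fromSpecStalk_closedPoint

/-- The residue field of a strict henselisation inside a separably closed algebraic extension. -/
theorem exists_residue_lift (O R : Type u) [CommRing O] [IsLocalRing O] [CommRing R] [IsLocalRing R] [Algebra O R]
    [IsLocalHom (algebraMap O R)] [Hensel.IsStrictHenselization O R] (Ω : Type u) [Field Ω] [IsSepClosed Ω]
    [Algebra (IsLocalRing.ResidueField O) Ω] [Algebra.IsAlgebraic (IsLocalRing.ResidueField O) Ω] :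
    ∃ τ : IsLocalRing.ResidueField R →+* Ω, τ.IsIntegral ∧
      UniversallyInjective (Spec.map (CommRingCat.ofHom τ)) ∧
      ∀ z : O, τ (IsLocalRing.residue R (algebraMap O R z)) =
        algebraMap (IsLocalRing.ResidueField O) Ω (IsLocalRing.residue O z) := by
  have hS : Hensel.IsStrictHenselization O R := inferInstance
  haveI := hS.isSepClosure.sep_closed
  haveI : Algebra.IsSeparable (IsLocalRing.ResidueField O) (IsLocalRing.ResidueField R) := hS.isSepClosure.separable
  let τ : IsLocalRing.ResidueField R →ₐ[IsLocalRing.ResidueField O] Ω := IsSepClosed.lift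
  letI : Algebra (IsLocalRing.ResidueField R) Ω := τ.toRingHom.toAlgebra
  haveI : IsScalarTower (IsLocalRing.ResidueField O) (IsLocalRing.ResidueField R) Ω :=
    IsScalarTower.of_algebraMap_eq fun x => (τ.commutes x).symm
  haveI : Algebra.IsAlgebraic (IsLocalRing.ResidueField R) Ω :=
    Algebra.IsAlgebraic.tower_top (K := IsLocalRing.ResidueField O) (IsLocalRing.ResidueField R)
  exact ⟨τ.toRingHom, algebraMap_isIntegral_iff.2 inferInstance, universallyInjective_spec,
    fun z => τ.commutes (IsLocalRing.residue O z)⟩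

variable {X Y : Scheme.{u}} (g : X ⟶ Y) [QuasiCompact g] [QuasiSeparated g] (L : Set ℕ) (n : ℕ)
  (hg : EtAcyc.IsAcyclicN g L n)

include hg in
/-- The fibre over the closed point of a strict henselisation. -/
theorem rng_closedFibre (y : Y) (R : Type u) [CommRing R] [HenselianLocalRing R]
    [IsSepClosed (IsLocalRing.ResidueField R)] [Algebra (Y.presheaf.stalk y) R]
    [IsLocalHom (algebraMap (Y.presheaf.stalk y) R)] [Hensel.IsStrictHenselization (Y.presheaf.stalk y) R]
    (ℓ : ℕ) (hℓ : ℓ.Prime) (hL : ℓ ∈ L) (q : ℕ) (hq : q ≤ n) :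
    Function.Bijective (EtCore.Hpull (pullback.snd g (closedPt R ≫ Hens2.specOf Y y R))
      (EtCoh.const (Spec (CommRingCat.of (IsLocalRing.ResidueField R))) (ZMod ℓ)) q) := by
  obtain ⟨C⟩ := exists_chart y R
  let gS := Hens2.specOf Y y R
  let j := Y.fromSpecResidueField y
  let K := EtCoh.const (Spec (Y.residueField y)) (ZMod ℓ)
  let F : EtCoh.Ab Y := (EtCoh.push j).obj K
  haveI : (EtCoh.push j).Additive := { }
  have hFℓ : ℓ • (𝟙 F) = 0 := nsmul_id_map (EtCoh.push j) (nsmul_id_const ℓ)
  have hF : EtAcyc.IsLTorsion L F := isLTorsion_of_nsmul hℓ hL hFℓ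
  let H : EtCoh.Ab (Spec (CommRingCat.of R)) := (EtCoh.pull gS).obj F
  haveI : IsClosedImmersion (closedPt R) :=
    IsClosedImmersion.spec_of_surjective _ IsLocalRing.residue_surjective
  have hsupp : EtPBC.supp H ⊆ Set.range (closedPt R).base := by
    rintro x ⟨Ω, _, _, ξ, hξ, hne⟩
    by_contra hx
    have hξx : ξ.base default = x := by
      have h : ξ.base default ∈ ({x} : Set _) := hξ ▸ ⟨default, rfl⟩
      exact h
    have hcl : (closedPt R).base default = IsLocalRing.closedPoint R := by
      rw [Subsingleton.elim (default : Spec (CommRingCat.of (IsLocalRing.ResidueField R)))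
        (IsLocalRing.closedPoint (IsLocalRing.ResidueField R))]
      exact IsLocalRing.comap_closedPoint (IsLocalRing.residue R)
    have hne' : gS.base x ≠ y := fun h => hx ⟨default, hcl.trans (eq_closedPoint_of_specOf y R x h).symm⟩
    have hgen : gS.base x ⤳ y := by
      have h := ((IsLocalRing.specializes_closedPoint x).map gS.base.hom.continuous)
      have h' : gS.base (IsLocalRing.closedPoint R) = y := specOf_closedPoint Y y R
      exact h' ▸ h
    have hns : ¬ j.base default ⤳ (ξ ≫ gS).base default := by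
      rw [show j.base default = y from Scheme.fromSpecResidueField_apply y default,
        Scheme.Hom.comp_apply, hξx]
      exact fun h => hne' (hgen.antisymm h).eq
    haveI : Subsingleton ↑((stk (A := AddCommGrpCat.{u + 1}) ξ).obj H) :=
      @Function.Surjective.subsingleton _ _ _ (subsingleton_stalk_push_point j K (ξ ≫ gS) hns)
        (ConcreteCategory.bijective_of_isIso ((stalkPull gS ξ AddCommGrpCat.{u + 1}).hom.app F)).2
    exact hne (AddCommGrpCat.isZero_of_subsingleton _)
  obtain ⟨hfull, hfaith, hess, -⟩ := Groth.Agent.S0631.result (closedPt R)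
  obtain ⟨N, ⟨e⟩⟩ := (hess H).2 hsupp
  haveI := hfaith
  haveI : (EtCoh.push (closedPt R)).Additive := { }
  haveI : (EtCoh.pull gS).Additive := (EtCoh.pullPushAdj gS).left_adjoint_additive
  have hNℓ : ℓ • (𝟙 N) = 0 := (EtCoh.push (closedPt R)).map_injective (by
    rw [Functor.map_nsmul, Functor.map_zero, CategoryTheory.Functor.map_id]
    have h : ℓ • (𝟙 H) = 0 := nsmul_id_map (EtCoh.pull gS) hFℓ
    have h2 := congrArg (fun t => e.hom ≫ t ≫ e.inv) h
    simp only [Preadditive.comp_nsmul, Preadditive.nsmul_comp, Category.id_comp, Iso.hom_inv_id, zero_comp,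
      comp_zero] at h2
    exact h2)
  haveI : Fact ℓ.Prime := ⟨hℓ⟩
  have hne : ∀ i, F.obj.map (toTop (C.DS.obj i)).op
      (cstUnit (Spec (Y.residueField y)) (AddCommGrpCat.of (ULift.{u + 1} (ZMod ℓ))) ⟨1⟩ |>
        K.obj.map (toTop ((EtCoh.bc j).obj (EtCoh.top Y))).op) ≠ 0 := by
    intro i
    haveI : Nonempty ((EtCoh.bc j).obj (C.DS.obj i)).left := by
      have h1 : (C.DS.obj i).hom.base ((C.π i).base (IsLocalRing.closedPoint R)) =
          j.base (default : Spec (Y.residueField y)) := by
        refine Eq.trans ?_ ((specOf_closedPoint Y y R).trans (Scheme.fromSpecResidueField_apply y default).symm)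
        exact congrArg (fun t : Spec (CommRingCat.of R) ⟶ Y => t.base (IsLocalRing.closedPoint R)) (C.w i)
      obtain ⟨z, -⟩ := Scheme.Pullback.exists_preimage_pullback _ _ h1
      exact ⟨z⟩
    show K.obj.map ((EtCoh.bc j).map (toTop (C.DS.obj i))).op _ ≠ 0
    rw [← ConcreteCategory.comp_apply, ← Functor.map_comp, ← op_comp, toTop_unique (_ ≫ _)]
    exact const_one_ne_zero (ZMod ℓ) 1 one_ne_zero ((EtCoh.bc j).obj (C.DS.obj i))
  obtain ⟨η, hη⟩ := exists_H0_ne_zero C F _ hne
  obtain ⟨a, ha⟩ := exists_sect_ne_zero_push (closedPt R) N (η.comp (Ext.mk₀ e.inv) (add_zero 0)) (fun h => hη (by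
    refine (EtAcycLib.bijective_mk₀_iso_postcomp e.symm 0).1 ?_
    exact h.trans (Ext.zero_comp _ _ _ _ _).symm))
  obtain ⟨φ, r, hφr⟩ := exists_retract_const (IsLocalRing.ResidueField R) ℓ hℓ N hNℓ a ha
  let g' := pullback.fst g gS
  let f' := pullback.snd g gS
  let m : pullback g (closedPt R ≫ gS) ⟶ pullback g gS :=
    pullback.lift (pullback.fst g (closedPt R ≫ gS)) (pullback.snd g (closedPt R ≫ gS) ≫ closedPt R)
      (pullback.condition.trans (Category.assoc _ _ _).symm)
  have hc : IsPullback (pullback.snd g (closedPt R ≫ gS)) m (closedPt R) f' :=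
    (IsPullback.of_right (h₁₁ := m) (h₁₂ := g') (v₁₁ := pullback.snd g (closedPt R ≫ gS)) (v₁₂ := f')
      (v₁₃ := g) (h₂₁ := closedPt R) (h₂₂ := gS)
      (by rw [pullback.lift_fst]; exact (IsPullback.of_hasPullback g (closedPt R ≫ gS)))
      (pullback.lift_snd _ _ _) (IsPullback.of_hasPullback g gS)).flip
  have h1 := EtAcycLib.rng_Hpull_of_iso f' n e.symm
    (rng_pull g L n hg C (IsPullback.of_hasPullback g gS) F hF)
  exact bijective_comp_retract _ φ r hφr q ((rng_closed n (closedPt R) f' m _ hc N h1).1 q hq)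

include hg in
/-- Geometric fibres of an acyclic morphism are acyclic. -/
theorem acyclicScheme_geomFibre (hL : ∃ ℓ ∈ L, ℓ.Prime) (y : Y) (Ω : Type u) [Field Ω] [IsSepClosed Ω]
    [Algebra (Y.residueField y) Ω] [Algebra.IsAlgebraic (Y.residueField y) Ω] :
    EtAcyc.IsAcyclicSchemeN L n (pullback g (EtAcyc.geomPt Y y Ω)) := by
  let O := Y.presheaf.stalk y
  let R := HenselLib.SH O
  have hS : Hensel.IsStrictHenselization O R := inferInstance
  haveI := hS.henselian
  haveI := hS.isSepClosure.sep_closed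
  let k := IsLocalRing.ResidueField R
  obtain ⟨τ, hint, hinj, hτ⟩ :
      ∃ τ : k →+* Ω, τ.IsIntegral ∧ UniversallyInjective (Spec.map (CommRingCat.ofHom τ)) ∧
        ∀ z : O, τ (IsLocalRing.residue R (algebraMap O R z)) =
          algebraMap (Y.residueField y) Ω (IsLocalRing.residue O z) :=
    @exists_residue_lift O R _ _ _ _ _ _ _ Ω _ _ ‹Algebra (Y.residueField y) Ω› ‹_›
  let b : Spec (CommRingCat.of Ω) ⟶ Spec (CommRingCat.of k) := Spec.map (CommRingCat.ofHom τ)
  haveI : UniversallyInjective b := hinj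
  haveI : IsIntegralHom b := IsIntegralHom.SpecMap_iff.2 hint
  haveI : Surjective b := ⟨fun x => ⟨default, Subsingleton.elim _ _⟩⟩
  let a := closedPt R ≫ Hens2.specOf Y y R
  have hab : b ≫ a = EtAcyc.geomPt Y y Ω := by
    show Spec.map _ ≫ Spec.map _ ≫ Spec.map _ ≫ Y.fromSpecStalk y =
      Spec.map _ ≫ Spec.map (Y.residue y) ≫ Y.fromSpecStalk y
    rw [← Spec.map_comp_assoc, ← Spec.map_comp_assoc, ← Spec.map_comp_assoc]
    refine congrArg (fun t => Spec.map t ≫ Y.fromSpecStalk y) (CommRingCat.hom_ext (RingHom.ext fun z => ?_))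
    exact hτ z
  let u : pullback g (EtAcyc.geomPt Y y Ω) ⟶ pullback g a :=
    pullback.lift (pullback.fst g (EtAcyc.geomPt Y y Ω)) (pullback.snd g (EtAcyc.geomPt Y y Ω) ≫ b)
      (pullback.condition.trans ((congrArg (_ ≫ ·) hab.symm).trans (Category.assoc _ _ _).symm))
  have hu : IsPullback u (pullback.snd g (EtAcyc.geomPt Y y Ω)) (pullback.snd g a) b :=
    IsPullback.of_right (h₁₁ := u) (h₁₂ := pullback.fst g a) (v₁₃ := g) (h₂₁ := b) (h₂₂ := a)
      (by rw [pullback.lift_fst, hab]; exact IsPullback.of_hasPullback g (EtAcyc.geomPt Y y Ω))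
      (pullback.lift_snd _ _ _) (IsPullback.of_hasPullback g a)
  haveI : IsIntegralHom u := MorphismProperty.of_isPullback hu.flip inferInstance
  haveI : UniversallyInjective u := MorphismProperty.of_isPullback hu.flip inferInstance
  haveI : Surjective u := MorphismProperty.of_isPullback hu.flip inferInstance
  have key : ∀ ℓ : ℕ, ℓ.Prime → ℓ ∈ L → ∀ q, q ≤ n → ∃ Φ : EtCoh.H (Spec (CommRingCat.of k))
      (EtCoh.const (Spec (CommRingCat.of k)) (ZMod ℓ)) q →
        EtCoh.H (pullback g (EtAcyc.geomPt Y y Ω)) (EtCoh.const _ (ZMod ℓ)) q, Function.Bijective Φ :=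
    fun ℓ hℓ hℓL q hq => ⟨_, (bijective_toConst u (ZMod ℓ) q
      (Groth.Agent.S0642.result u (EtCoh.const (pullback g a) (ZMod ℓ)) q)).comp
      (bijective_toConst (pullback.snd g a) (ZMod ℓ) q (rng_closedFibre g L n hg y R ℓ hℓ hℓL q hq))⟩
  obtain ⟨ℓ₀, hℓ₀L, hℓ₀⟩ := hL
  haveI : Fact ℓ₀.Prime := ⟨hℓ₀⟩
  obtain ⟨Φ, hΦ⟩ := key ℓ₀ hℓ₀ hℓ₀L 0 (Nat.zero_le n)
  obtain ⟨e, he⟩ := exists_bijective_point (ZMod ℓ₀) k
  obtain ⟨hne, hconn⟩ := connected_of_sections (ZMod ℓ₀) (e ∘ (Equiv.ofBijective Φ hΦ).symm)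
    (he.comp (Equiv.bijective _))
  refine ⟨hne, hconn, fun ℓ hℓ hℓL q hq₁ hq => ?_⟩
  obtain ⟨Φ, hΦ⟩ := key ℓ hℓ hℓL q hq
  haveI := isSepClosed_residue k
  haveI : Subsingleton (EtCoh.H (Spec (CommRingCat.of k)) (EtCoh.const (Spec (CommRingCat.of k)) (ZMod ℓ)) q) :=
    subsingleton_H k _ q hq₁
  exact hΦ.2.subsingleton

end EtStrictAcycLib
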