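import Groth.Agent.EtLocCohLib.ConstDev
import Groth.Agent.EtShLib.StrictLocal
import Groth.Agent.EtShLib.SamePoint
import Groth.Agent.EtShLib.SpecLC
import Groth.Agent.EtShLib.PushStalk
import Groth.Agent.S12237
import Groth.Agent.S0736
import Groth.Agent.WEtFieldLib.Basic
import Groth.Prelude.Def_Hens2

/-!
# Sheaves at a point and the closed point of a strict henselisation
-/

set_option autoImplicit false
set_option linter.unusedSectionVars false
set_option linter.style.haveILetI false
set_option backward.isDefEq.respectTransparency false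
set_option backward.isDefEq.respectTransparency.types false
set_option synthInstance.maxHeartbeats 400000
set_option maxHeartbeats 1000000

universe u

open CategoryTheory CategoryTheory.Limits AlgebraicGeometry Opposite TensorProduct
open Groth.Agent.EtShLib

noncomputable section

namespace EtStrictAcycLib

/-- A strict henselisation is unramified at its closed point. -/
theorem mem_of_comap_eq {O R : Type u} [CommRing O] [IsLocalRing O] [CommRing R] [IsLocalRing R] [Algebra O R]
    [IsLocalHom (algebraMap O R)] [Hensel.IsStrictHenselization O R] (p : Ideal R) [p.IsPrime]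
    (hp : p.comap (algebraMap O R) = IsLocalRing.maximalIdeal O) : p = IsLocalRing.maximalIdeal R := by
  haveI : Algebra.WeaklyEtale O R := Groth.Agent.S0736.result _ R (Groth.Agent.S12237.result O R)
  refine le_antisymm (IsLocalRing.le_maximalIdeal (Ideal.IsPrime.ne_top inferInstance)) fun a ha => ?_
  let K := IsLocalRing.ResidueField O
  let φ : K →ₐ[O] R ⧸ p :=
    { Ideal.Quotient.lift (IsLocalRing.maximalIdeal O) (algebraMap O (R ⧸ p)) (fun x hx => by
        rw [IsScalarTower.algebraMap_apply O R (R ⧸ p), Ideal.Quotient.algebraMap_eq, Ideal.Quotient.eq_zero_iff_mem]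
        exact hp.ge hx) with commutes' := fun x => rfl }
  let ψ : K ⊗[O] R →ₐ[O] R ⧸ p :=
    Algebra.TensorProduct.lift φ (Ideal.Quotient.mkₐ O p) fun _ _ => Commute.all _ _
  obtain ⟨x, hx⟩ := Groth.Agent.WEtFieldLib.forall_dvd (K := K) (B := K ⊗[O] R) (1 ⊗ₜ a)
  have h : ψ (1 ⊗ₜ a) = Ideal.Quotient.mk p a := by simp [ψ]
  obtain ⟨b, hb⟩ := Ideal.Quotient.mk_surjective (ψ x)
  have h1 := congrArg ψ hx
  rw [map_mul, map_mul, h, ← hb, ← map_mul, ← map_mul, Ideal.Quotient.eq] at h1
  have h2 : a * (1 - a * b) ∈ p := by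
    have : a * (1 - a * b) = a - a * a * b := by ring
    rw [this]
    exact h1
  rcases Ideal.IsPrime.mem_or_mem inferInstance h2 with h3 | h3
  · exact h3
  · exact absurd (IsLocalRing.le_maximalIdeal (Ideal.IsPrime.ne_top inferInstance) h3) fun h4 =>
      (IsLocalRing.maximalIdeal.isMaximal R).ne_top
        ((Ideal.eq_top_iff_one _).2 (sub_add_cancel (1 : R) (a * b) ▸ add_mem h4 (Ideal.mul_mem_right b _ ha)))

theorem eq_closedPoint_of_specOf {S : Scheme.{u}} (s : S) (R : Type u) [CommRing R] [IsLocalRing R]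
    [Algebra (S.presheaf.stalk s) R] [IsLocalHom (algebraMap (S.presheaf.stalk s) R)]
    [Hensel.IsStrictHenselization (S.presheaf.stalk s) R] (x : Spec (CommRingCat.of R))
    (hx : (Hens2.specOf S s R).base x = s) : x = IsLocalRing.closedPoint R := by
  refine PrimeSpectrum.ext (mem_of_comap_eq (O := S.presheaf.stalk s) x.asIdeal ?_)
  have h := (S.fromSpecStalk s).isEmbedding.injective (hx.trans (Scheme.fromSpecStalk_closedPoint).symm)
  exact congrArg PrimeSpectrum.asIdeal h

/-- A direct image from a point has stalk zero away from the specialisations of the point. -/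
theorem subsingleton_stalk_push_point {Y : Scheme.{u}} {K : Type u} [Field K] (j : Spec (CommRingCat.of K) ⟶ Y)
    (M : EtCoh.Ab (Spec (CommRingCat.of K))) {Ω : Type u} [Field Ω] [IsSepClosed Ω]
    (ξ : Spec (CommRingCat.of Ω) ⟶ Y) (h : ¬ j.base default ⤳ ξ.base default) :
    Subsingleton ((stk (A := AddCommGrpCat.{u + 1}) ξ).obj ((EtCoh.push j).obj M)) := by
  rw [specializes_iff_forall_open] at h
  push Not at h
  obtain ⟨U, hU, hξ, hj⟩ := h
  refine subsingleton_stalk ξ hU hξ fun W hW => ?_
  haveI : IsEmpty ((EtCoh.bc j).obj W).left := ⟨fun p => hj ?_⟩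
  · exact subsingleton_sect_of_isEmpty M ((EtCoh.bc j).obj W)
  · have hc := congrArg (fun t : ((EtCoh.bc j).obj W).left ⟶ Y => t.base p)
      (pullback.condition : pullback.fst W.hom j ≫ W.hom = pullback.snd W.hom j ≫ j)
    rw [Subsingleton.elim (default : Spec (CommRingCat.of K)) ((pullback.snd W.hom j).base p)]
    exact hc ▸ hW ⟨_, rfl⟩

variable (k : Type u) [Field k] [IsSepClosed k]

theorem isSepClosed_residue : IsSepClosed (IsLocalRing.ResidueField k) := by
  haveI : Algebra.IsAlgebraic k (IsLocalRing.ResidueField k) :=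
    ⟨fun x => by
      obtain ⟨y, rfl⟩ := IsLocalRing.residue_surjective x
      exact isAlgebraic_algebraMap y⟩
  exact Algebra.IsAlgebraic.isSepClosed (F := k)

theorem isCst_id (N : EtCoh.Ab (Spec (CommRingCat.of k))) :
    IsCst N (EtCoh.top (Spec (CommRingCat.of k))) (𝟙 (N.obj.obj (op (EtCoh.top _)))) := by
  intro Ω _ _ ξ u
  haveI := isSepClosed_residue k
  have e : ξ.base default = (closedPt k).base default := Subsingleton.elim _ _
  obtain ⟨φ⟩ := exists_spec_arrow' (closedPt k) ξ (e ▸ specializes_rfl)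
  haveI := isIso_sheafFiber_of_eq (A := AddCommGrpCat.{u + 1}) φ e
  have hu : u = φ.hom.app (EtCoh.top _) (topPt k) := Fib.ext (by
    have h1 := u.w
    have h2 := (φ.hom.app (EtCoh.top (Spec (CommRingCat.of k))) (topPt k)).w
    exact (Category.comp_id _).symm.trans (h1.trans (h2.symm.trans (Category.comp_id _))))
  rw [Category.id_comp, hu, ← germ_spec φ (EtCoh.top _) (topPt k)]
  haveI : IsIso (germ (A := AddCommGrpCat.{u + 1}) (closedPt k) N (EtCoh.top _) (topPt k)) :=
    (ConcreteCategory.isIso_iff_bijective _).2 (bijective_germ_top k N)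
  infer_instance

/-- A nonzero sheaf at a separably closed point killed by a prime has the constant sheaf as a direct summand. -/
theorem exists_retract_const (ℓ : ℕ) (hℓ : ℓ.Prime) (N : EtCoh.Ab (Spec (CommRingCat.of k)))
    (hN : ℓ • (𝟙 N) = 0) (a : (EtCore.gsec (Spec (CommRingCat.of k))).obj N) (ha : a ≠ 0) :
    ∃ (φ : EtCoh.const (Spec (CommRingCat.of k)) (ZMod ℓ) ⟶ N) (r : N ⟶ EtCoh.const _ (ZMod ℓ)), φ ≫ r = 𝟙 _ := by
  obtain ⟨e⟩ := EtLocCohLib.nonempty_iso_cK_of_isCst (isCst_id k N)
  haveI : Fact ℓ.Prime := ⟨hℓ⟩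
  let A := (EtCore.gsec (Spec (CommRingCat.of k))).obj N
  have hA : ∀ x : A, ℓ • x = 0 := fun x => by
    have h := congrArg (fun t : N ⟶ N => t.hom.app (op (EtCoh.top _)) x) hN
    exact h
  letI : Module (ZMod ℓ) A := AddCommGroup.zmodModule hA
  obtain ⟨rl, hrl⟩ := LinearMap.exists_leftInverse_of_injective (LinearMap.toSpanSingleton (ZMod ℓ) A a)
    (LinearMap.ker_eq_bot'.2 fun c hc => by
      by_contra hc0
      exact ha ((one_smul (ZMod ℓ) a).symm.trans (by
        rw [← inv_mul_cancel₀ hc0, mul_smul]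
        exact (congrArg (c⁻¹ • ·) hc).trans (smul_zero _))))
  let φA : AddCommGrpCat.of (ULift.{u + 1} (ZMod ℓ)) ⟶ A :=
    AddCommGrpCat.ofHom ((LinearMap.toSpanSingleton (ZMod ℓ) A a).toAddMonoidHom.comp AddEquiv.ulift.toAddMonoidHom)
  let rA : A ⟶ AddCommGrpCat.of (ULift.{u + 1} (ZMod ℓ)) :=
    AddCommGrpCat.ofHom (AddEquiv.ulift.symm.toAddMonoidHom.comp rl.toAddMonoidHom)
  have h : φA ≫ rA = 𝟙 _ := by
    ext x
    exact LinearMap.congr_fun hrl x.down
  refine ⟨(EtLocCohLib.cK _).map φA ≫ e.hom, e.inv ≫ (EtLocCohLib.cK _).map rA, ?_⟩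
  rw [Category.assoc, Iso.hom_inv_id_assoc, ← Functor.map_comp, h]
  exact CategoryTheory.Functor.map_id _ _

end EtStrictAcycLib
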