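import Groth.Agent.EtStrictAcycLib.Stages
import Groth.Agent.EtStrictAcycLib.Point
import Groth.Agent.EtRpushStalkLib.Exists
import Groth.Agent.EtShLib.FiniteBC0
import Groth.Agent.EtShLib.FiniteExact
import Groth.Agent.S0631
import Groth.Agent.S14451
import Groth.Agent.S14389

/-!
# Acyclic morphisms have acyclic geometric fibres
-/

set_option autoImplicit false
set_option linter.unusedSectionVars false
set_option linter.style.haveILetI false
set_option backward.isDefEq.respectTransparency false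
set_option backward.isDefEq.respectTransparency.types false
set_option synthInstance.maxHeartbeats 400000
set_option maxHeartbeats 1000000

universe u

open CategoryTheory CategoryTheory.Limits CategoryTheory.Abelian AlgebraicGeometry Opposite DescSecLib
open Groth.Agent.EtShLib EtRpushStalkLib

noncomputable section

namespace EtStrictAcycLib

attribute [local instance] EtSliceLib.pullExact

/-- The map to the final object. -/
abbrev toTop {T : Scheme.{u}} (Z : T.Etale) : Z ⟶ EtCoh.top T :=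
  MorphismProperty.Over.homMk Z.hom (Category.comp_id _)

theorem toTop_unique {T : Scheme.{u}} {Z : T.Etale} (a : Z ⟶ EtCoh.top T) : a = toTop Z :=
  MorphismProperty.Over.Hom.ext ((Category.comp_id _).symm.trans (MorphismProperty.Over.w a))

/-- The unit section of the constant sheaf is nonzero on nonempty étale schemes. -/
theorem const_one_ne_zero {T : Scheme.{u}} (M : Type) [AddCommGroup M] (m : M) (hm : m ≠ 0) (Z : T.Etale)
    [Nonempty Z.left] :
    (EtCoh.const T M).obj.map (toTop Z).op (cstUnit T (AddCommGrpCat.of (ULift.{u + 1} M)) ⟨m⟩) ≠ 0 := by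
  intro h
  obtain ⟨Ω, _, _, ξ, u, -⟩ := exists_geometric (Classical.arbitrary Z.left)
  have h1 := congrArg (germ ξ (EtCoh.const T M) Z u) h
  rw [germ_res_apply, map_zero] at h1
  haveI := isCst_cstUnit (X := T) (AddCommGrpCat.of (ULift.{u + 1} M)) Ω ξ (u.map (toTop Z))
  have h2 : (ULift.up m : ULift.{u + 1} M) = 0 :=
    (ConcreteCategory.bijective_of_isIso (cstUnit T (AddCommGrpCat.of (ULift.{u + 1} M)) ≫
      germ ξ (EtCoh.const T M) (EtCoh.top T) (u.map (toTop Z)))).1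
      ((ConcreteCategory.comp_apply _ _ _).trans (h1.trans (map_zero _).symm))
  exact hm (congrArg ULift.down h2)

theorem nsmul_id_const {T : Scheme.{u}} (ℓ : ℕ) :
    ℓ • (𝟙 (EtCoh.const T (ZMod ℓ))) = 0 := by
  have h : ℓ • 𝟙 (AddCommGrpCat.of (ULift.{u + 1} (ZMod ℓ))) = 0 := by
    ext x
    show ℓ • x.down = 0
    rw [nsmul_eq_mul, ZMod.natCast_self, zero_mul]
  rw [← CategoryTheory.Functor.map_id, ← (EtLocCohLib.cK T).map_nsmul, h, Functor.map_zero]

theorem nsmul_id_map {A B : Type*} [Category A] [Category B] [Preadditive A] [Preadditive B] (G : A ⥤ B)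
    [G.Additive] {M : A} {ℓ : ℕ} (h : ℓ • (𝟙 M) = 0) : ℓ • (𝟙 (G.obj M)) = 0 := by
  rw [← G.map_id, ← G.map_nsmul, h, Functor.map_zero]

theorem isLTorsion_of_nsmul {T : Scheme.{u}} {L : Set ℕ} {ℓ : ℕ} (hℓ : ℓ.Prime) (hL : ℓ ∈ L) {G : EtCoh.Ab T}
    (h : ℓ • (𝟙 G) = 0) : EtAcyc.IsLTorsion L G := by
  intro U s x
  refine ⟨U, 𝟙 U, ℓ, ⟨x, rfl⟩, ⟨hℓ.pos, fun p hp hd => ?_⟩, ?_⟩
  · rwa [(Nat.prime_dvd_prime_iff_eq hp hℓ).1 hd]
  · have h1 := congrArg (fun t : G ⟶ G => t.hom.app (op U) (G.obj.map (𝟙 U).op s)) h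
    exact h1

variable {Y : Scheme.{u}} {R : Type u} [CommRing R] [HenselianLocalRing R]
  [IsSepClosed (IsLocalRing.ResidueField R)] {gS : Spec (CommRingCat.of R) ⟶ Y}

/-- A section nonzero on all neighbourhoods gives a nonzero class on the strict localisation. -/
theorem exists_H0_ne_zero (C : Chart gS) (F : EtCoh.Ab Y) (t : F.obj.obj (op (EtCoh.top Y)))
    (ht : ∀ i, F.obj.map (toTop (C.DS.obj i)).op t ≠ 0) :
    ∃ η : EtCoh.H (Spec (CommRingCat.of R)) ((EtCoh.pull gS).obj F) 0, η ≠ 0 := by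
  haveI : ∀ (i j : C.I) (a : i ⟶ j), IsAffineHom ((undl C.DS).map a) := fun i j a =>
    isAffineHom_of_isAffine ((undl C.DS).map a)
  obtain ⟨i⟩ : Nonempty C.I := IsCofiltered.nonempty
  obtain ⟨x, hx⟩ := EtContLib.sec_surjective
    (EtSliceLib.sa (C.DS.obj i) F (F.obj.map (toTop (C.DS.obj i)).op t))
  refine ⟨etSys.Hmap F 0 (coneV C i) x, fun h => ?_⟩
  obtain ⟨k, a, ha⟩ := exists_Hmap_stgMap F (tS C) C.cone C.hc gS C.w 0 i x h
  rw [← HpullThen_eq_Hmap] at ha
  have h1 := (congrArg EtContLib.sec ha).trans EtContLib.sec_zero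
  have h2 := (sec_HpullThen_k F (C.DS.obj i) (C.DS.map a).left (C.DS.obj k).hom
    (MorphismProperty.Over.w (C.DS.map a)) x _ hx).symm.trans h1
  refine ht k ?_
  rw [← toTop_unique (C.DS.map a ≫ toTop (C.DS.obj i)), op_comp, Functor.map_comp, ConcreteCategory.comp_apply]
  exact (EtSliceLib.bijective_sa (C.DS.obj k) F).1 ((sa_map F (C.DS.map a) _).trans (h2.trans (map_zero _).symm))

theorem exists_sect_ne_zero_push {Z T : Scheme.{u}} (i : Z ⟶ T) (N : EtCoh.Ab Z)
    (η : EtCoh.H T ((EtCoh.push i).obj N) 0) (hη : η ≠ 0) : ∃ a : (EtCore.gsec Z).obj N, a ≠ 0 := by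
  refine ⟨N.obj.map (EtCore.bcTopIso i).inv.op (EtContLib.sec η), fun h => hη (EtContLib.sec_eq_zero ?_)⟩
  have h1 := congrArg (N.obj.map (EtCore.bcTopIso i).hom.op) h
  rw [map_zero, ← ConcreteCategory.comp_apply, ← Functor.map_comp, ← op_comp, Iso.hom_inv_id, op_id,
    CategoryTheory.Functor.map_id, ConcreteCategory.id_apply] at h1
  exact h1

theorem isZero_Rpush_finite {Z T : Scheme.{u}} (i : Z ⟶ T) [IsFinite i] (N : EtCoh.Ab Z) (q : ℕ) (hq : 0 < q) :
    IsZero ((EtCoh.Rpush i q).obj N) :=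
  isZero_rightDerived_push_finite i N q hq

theorem bijective_comp_retract {T : Scheme.{u}} {Z : Scheme.{u}} (p : Z ⟶ T) [PreservesFiniteLimits (EtCoh.pull p)]
    {A B : EtCoh.Ab T} (φ : A ⟶ B) (r : B ⟶ A) (h : φ ≫ r = 𝟙 A) (q : ℕ)
    (hB : Function.Bijective (EtCore.Hpull p B q)) : Function.Bijective (EtCore.Hpull p A q) := by
  refine ⟨fun x y e => ?_, fun z => ?_⟩
  · have e1 := congrArg (fun t => Ext.comp t (Ext.mk₀ ((EtCoh.pull p).map φ)) (add_zero q)) e
    simp only [← EtAcycLib.Hpull_postcomp] at e1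
    have e2 := congrArg (fun t => Ext.comp t (Ext.mk₀ r) (add_zero q)) (hB.1 e1)
    simpa only [Ext.comp_assoc_of_second_deg_zero, Ext.mk₀_comp_mk₀, h, Ext.comp_mk₀_id] using e2
  · obtain ⟨x, hx⟩ := hB.2 (z.comp (Ext.mk₀ ((EtCoh.pull p).map φ)) (add_zero q))
    refine ⟨x.comp (Ext.mk₀ r) (add_zero q), ?_⟩
    rw [EtAcycLib.Hpull_postcomp, hx, Ext.comp_assoc_of_second_deg_zero, Ext.mk₀_comp_mk₀, ← Functor.map_comp, h,
      CategoryTheory.Functor.map_id, Ext.comp_mk₀_id]

variable {X : Scheme.{u}} (g : X ⟶ Y) [QuasiCompact g] [QuasiSeparated g] (L : Set ℕ) (n : ℕ)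

theorem rng_pull (hg : EtAcyc.IsAcyclicN g L n) (C : Chart gS) {Xb : Scheme.{u}} {g' : Xb ⟶ X}
    {f' : Xb ⟶ Spec (CommRingCat.of R)} (sq : IsPullback g' f' g gS) (F : EtCoh.Ab Y) (hF : EtAcyc.IsLTorsion L F) :
    EtAcycLib.Rng n (fun q => (EtCore.Hpull f' ((EtCoh.pull gS).obj F) q : _ → _)) :=
  (EtAcycLib.rng_Hmap_iff F n (projS (gS := gS) (f' := f'))).1
    ⟨fun q hq => ⟨injective_projS g sq C L n hg F hF q (by omega), surjective_projS g sq C L n hg F hF q hq⟩,
      injective_projS g sq C L n hg F hF (n + 1) le_rfl⟩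

/-- From a sheaf concentrated at the closed point to the closed fibre. -/
theorem rng_closed {T' T Z Z' : Scheme.{u}} (i : Z ⟶ T) [IsClosedImmersion i] (f' : T' ⟶ T) (m : Z' ⟶ T')
    (g₀ : Z' ⟶ Z) (hc : IsPullback g₀ m i f') (N : EtCoh.Ab Z)
    (h : EtAcycLib.Rng n (fun q => (EtCore.Hpull f' ((EtCoh.push i).obj N) q : _ → _))) :
    EtAcycLib.Rng n (fun q => (EtCore.Hpull g₀ N q : _ → _)) := by
  haveI : IsFinite m := MorphismProperty.of_isPullback hc inferInstance
  haveI := isIso_baseChange0_of_finite i f' m g₀ hc N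
  have hi : ∀ q, Function.Bijective (EtLim.HofPush i N q) := fun q =>
    Groth.Agent.S14451.result i N (fun q hq => isZero_Rpush_finite i N q hq) q
  have hm : ∀ q, Function.Bijective (EtLim.HofPush m ((EtCoh.pull g₀).obj N) q) := fun q =>
    Groth.Agent.S14451.result m _ (fun q hq => isZero_Rpush_finite m _ q hq) q
  refine (EtAcycLib.rng_comp_bijective_iff (fun q => (EtCore.Hpull g₀ N q : _ → _))
    (fun q => (EtLim.HofPush i N q : _ → _)) hi).1 ?_
  have e : (fun q => (EtCore.Hpull g₀ N q : _ → _) ∘ (EtLim.HofPush i N q : _ → _)) =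
      fun q => ((EtLim.HofPush m ((EtCoh.pull g₀).obj N) q : _ → _) ∘
        ((EtCoh.HF T' q).map (EtCoh.baseChange0 i f' m g₀ hc.w N)).hom) ∘
          (EtCore.Hpull f' ((EtCoh.push i).obj N) q : _ → _) :=
    funext fun q => funext fun ζ => Groth.Agent.S14389.result i f' m g₀ hc.w N q ζ
  rw [e]
  exact (EtAcycLib.rng_comp_iff_of_bijective
    (fun q => (EtLim.HofPush m ((EtCoh.pull g₀).obj N) q : _ → _) ∘
      ((EtCoh.HF T' q).map (EtCoh.baseChange0 i f' m g₀ hc.w N)).hom)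
    (fun q => (EtCore.Hpull f' ((EtCoh.push i).obj N) q : _ → _))
    fun q => (hm q).comp (ConcreteCategory.bijective_of_isIso ((EtCoh.HF T' q).map _))).2 h

end EtStrictAcycLib
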