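import Groth.Agent.EtRpushStalkLib.Zero
import Groth.Agent.EtAcycLib.Comp

/-!
# Acyclic morphisms over a strict localisation
-/

set_option autoImplicit false
set_option linter.unusedSectionVars false
set_option linter.style.haveILetI false
set_option backward.isDefEq.respectTransparency false
set_option backward.isDefEq.respectTransparency.types false
set_option synthInstance.maxHeartbeats 400000
set_option maxHeartbeats 1000000

universe u

open CategoryTheory CategoryTheory.Limits CategoryTheory.Abelian AlgebraicGeometry Opposite DescSecLib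
open Groth.Agent.EtShLib EtRpushStalkLib

noncomputable section

namespace EtStrictAcycLib

attribute [local instance] EtSliceLib.pullExact

theorem HpullThen_eq_Hmap {Y : Scheme.{u}} (F : EtCoh.Ab Y) (q : ℕ) {A B : Over Y} (φ : A ⟶ B)
    (x : EtCoh.H B.left (etSys.M F B) q) :
    EtLim.HpullThen φ.left (etSys.M F B) (EtContLib.adjL φ.left (etSys.k F φ)) q x = etSys.Hmap F q φ x :=
  (EtAcycLib.hmap_eq_Hpull F q φ x).symm

attribute [local irreducible] EtCore.Hpull EtLim.HpullThen

section Limit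

variable {I : Type u} [SmallCategory I] [IsCofiltered I] {D : I ⥤ Scheme.{u}} {S : Scheme.{u}} (F : EtCoh.Ab S)
  (t : D ⟶ (Functor.const I).obj S) (c : Cone D) (hc : IsLimit c) (f₀ : c.pt ⟶ S)
  (w : ∀ j, c.π.app j ≫ t.app j = f₀)
  [∀ (i j : I) (f : i ⟶ j), IsAffineHom (D.map f)]
  [∀ i, CompactSpace (D.obj i)] [∀ i, QuasiSeparatedSpace (D.obj i)]

include hc in
/-- Classes on a limit come from a stage. -/
theorem exists_Hmap_stgPt (q : ℕ) (ξ : EtCoh.H c.pt (etSys.M F (Over.mk f₀)) q) :
    ∃ (i : I) (x : EtCoh.H (D.obj i) (etSys.M F (EtContLib.stg t i)) q),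
      etSys.Hmap F q (EtContLib.stgPt t c f₀ w i) x = ξ := by
  obtain ⟨i, x, hx⟩ := (EtContLib.pullPre F t).surjective ((EtCoh.pull f₀).obj F)
    (EtContLib.pullPsi F t c f₀ w) (fun {k j} a => EtContLib.pullPsi_compat F t c f₀ w a)
    hc (EtContLib.isLim_pullPre F t c f₀ w) q ξ
  exact ⟨i, x, (HpullThen_eq_Hmap F q (EtContLib.stgPt t c f₀ w i) x).symm.trans hx⟩

include hc in
/-- Classes vanishing on a limit vanish at a stage. -/
theorem exists_Hmap_stgMap (q : ℕ) (i : I) (x : EtCoh.H (D.obj i) (etSys.M F (EtContLib.stg t i)) q)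
    (hx : etSys.Hmap F q (EtContLib.stgPt t c f₀ w i) x = 0) :
    ∃ (k : I) (a : k ⟶ i), etSys.Hmap F q (EtContLib.stgMap t a) x = 0 := by
  obtain ⟨k, a, ha⟩ := (EtContLib.pullPre F t).eq_zero ((EtCoh.pull f₀).obj F)
    (EtContLib.pullPsi F t c f₀ w) (fun {k j} a => EtContLib.pullPsi_compat F t c f₀ w a)
    hc (EtContLib.isLim_pullPre F t c f₀ w) q i x
    ((HpullThen_eq_Hmap F q (EtContLib.stgPt t c f₀ w i) x).trans hx)
  exact ⟨k, a, (HpullThen_eq_Hmap F q (EtContLib.stgMap t a) x).symm.trans ha⟩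

end Limit

variable {X Y : Scheme.{u}} (g : X ⟶ Y) {R : Type u} [CommRing R] [HenselianLocalRing R]
  [IsSepClosed (IsLocalRing.ResidueField R)] {gS : Spec (CommRingCat.of R) ⟶ Y} {Xb : Scheme.{u}}
  {g' : Xb ⟶ X} {f' : Xb ⟶ Spec (CommRingCat.of R)} (sq : IsPullback g' f' g gS) (C : Chart gS)

/-- The strict localisation over the base. -/
abbrev oS (gS : Spec (CommRingCat.of R) ⟶ Y) : Over Y := Over.mk gS

/-- A neighbourhood over the base. -/
abbrev oV (i : C.I) : Over Y := Over.mk (C.DS.obj i).hom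

/-- The structure maps of the preimages, over the base. -/
def tY : C.D g ⟶ (Functor.const C.I).obj Y where
  app i := pullback.fst (C.DS.obj i).hom g ≫ (C.DS.obj i).hom
  naturality i j a := by
    show ((EtCoh.bc g).map (C.DS.map a)).left ≫ _ = _ ≫ 𝟙 _
    rw [Category.comp_id, ← Category.assoc, DescSecLib.bc_map_fst, Category.assoc]
    exact congrArg (pullback.fst (C.DS.obj i).hom g ≫ ·) (MorphismProperty.Over.w (C.DS.map a))

/-- The structure maps of the neighbourhoods. -/
def tS : undl C.DS ⟶ (Functor.const C.I).obj Y where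
  app i := (C.DS.obj i).hom
  naturality i j a := (MorphismProperty.Over.w (C.DS.map a)).trans (Category.comp_id _).symm

theorem c_tY (i : C.I) : (C.c g sq).π.app i ≫ (tY g C).app i = f' ≫ gS := by
  show C.p g sq i ≫ pullback.fst (C.DS.obj i).hom g ≫ (C.DS.obj i).hom = _
  rw [← Category.assoc, C.p_fst, Category.assoc, C.w]

/-- The projection of a preimage, over the base. -/
abbrev projV (i : C.I) : EtContLib.stg (tY g C) i ⟶ oV C i :=
  Over.homMk (pullback.fst (C.DS.obj i).hom g) rfl

/-- The projection of the fibre product, over the base. -/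
abbrev projS : Over.mk (f' ≫ gS) ⟶ oS gS := Over.homMk f' rfl

/-- The projection of the strict localisation, over the base. -/
abbrev coneV (i : C.I) : oS gS ⟶ oV C i := Over.homMk (C.π i) (C.w i)

theorem square (i : C.I) :
    EtContLib.stgPt (tY g C) (C.c g sq) (f' ≫ gS) (c_tY g sq C) i ≫ projV g C i = projS ≫ coneV C i :=
  Over.OverMorphism.ext (C.p_fst g sq i)

theorem square_map {k i : C.I} (a : k ⟶ i) :
    EtContLib.stgMap (tY g C) a ≫ projV g C i = projV g C k ≫ EtContLib.stgMap (tS C) a :=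
  Over.OverMorphism.ext (DescSecLib.bc_map_fst g (C.DS.map a))

variable (L : Set ℕ) (n : ℕ) (hg : EtAcyc.IsAcyclicN g L n) (F : EtCoh.Ab Y) (hF : EtAcyc.IsLTorsion L F)

include hg hF in
theorem rng_projV (i : C.I) :
    EtAcycLib.Rng n (fun q => (etSys.Hmap F q (projV g C i) : _ → _)) :=
  (EtAcycLib.rng_Hmap_iff F n (projV g C i)).2
    (hg (C.DS.obj i) _ (EtAcycLib.isLTorsion_pull_any (C.DS.obj i).hom hF))

variable [QuasiCompact g] [QuasiSeparated g]

include sq C hg hF in
/-- Surjectivity over the strict localisation. -/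
theorem surjective_projS (q : ℕ) (hq : q ≤ n) :
    Function.Surjective (etSys.Hmap F q (projS (gS := gS) (f' := f'))) := by
  intro ξ
  obtain ⟨i, x, hx⟩ := exists_Hmap_stgPt F (tY g C) (C.c g sq) (C.isLimit g sq) (f' ≫ gS) (c_tY g sq C) q ξ
  obtain ⟨y, rfl⟩ := ((rng_projV g C L n hg F hF i).1 q hq).2 x
  refine ⟨etSys.Hmap F q (coneV C i) y, ?_⟩
  rw [← PullSys.Hmap_comp, ← square g sq C i, PullSys.Hmap_comp]
  exact hx

include sq C hg hF in
/-- Injectivity over the strict localisation. -/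
theorem injective_projS (q : ℕ) (hq : q ≤ n + 1) :
    Function.Injective (etSys.Hmap F q (projS (gS := gS) (f' := f'))) := by
  refine (injective_iff_map_eq_zero (etSys.Hmap F q (projS (gS := gS) (f' := f')))).2 fun η hη => ?_
  haveI : ∀ (i j : C.I) (a : i ⟶ j), IsAffineHom ((undl C.DS).map a) := fun i j a =>
    isAffineHom_of_isAffine ((undl C.DS).map a)
  obtain ⟨i, y, hy'⟩ : ∃ (i : C.I) (y : EtCoh.H (C.DS.obj i).left (etSys.M F (oV C i)) q),
      etSys.Hmap F q (coneV C i) y = η := exists_Hmap_stgPt F (tS C) C.cone C.hc gS C.w q η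
  rw [← hy', ← PullSys.Hmap_comp, ← square g sq C i, PullSys.Hmap_comp] at hη
  obtain ⟨k, a, h1⟩ := exists_Hmap_stgMap F (tY g C) (C.c g sq) (C.isLimit g sq) (f' ≫ gS) (c_tY g sq C) q i _ hη
  rw [← PullSys.Hmap_comp, square_map g C a, PullSys.Hmap_comp] at h1
  have hinj : Function.Injective (etSys.Hmap F q (projV g C k)) := by
    rcases Nat.lt_or_eq_of_le hq with h | h
    · exact ((rng_projV g C L n hg F hF k).1 q (Nat.lt_succ_iff.1 h)).1
    · subst h
      exact (rng_projV g C L n hg F hF k).2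
  have h2 : etSys.Hmap F q (EtContLib.stgMap (tS C) a) y = 0 := hinj (h1.trans (map_zero _).symm)
  have hc : coneV C i = coneV C k ≫ EtContLib.stgMap (tS C) a := Over.OverMorphism.ext (C.nat a).symm
  rw [← hy', hc]
  exact (PullSys.Hmap_comp etSys F q (coneV C k) (EtContLib.stgMap (tS C) a) y).trans ((congrArg _ h2).trans (map_zero _))

include sq C hg hF in
/-- Vanishing over the strict localisation. -/
theorem subsingleton_fibreProduct (q : ℕ) (hq₁ : 1 ≤ q) (hq : q ≤ n) :
    Subsingleton (EtCoh.H Xb ((EtCoh.pull (f' ≫ gS)).obj F) q) := by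
  haveI : Subsingleton (Abelian.Ext.{u + 1} (etSys.Z (oS gS).left) (etSys.M F (oS gS)) q) :=
    Groth.Agent.EtShLib.subsingleton_H R ((EtCoh.pull gS).obj F) q hq₁
  refine subsingleton_of_forall_eq 0 fun ξ => ?_
  obtain ⟨η, rfl⟩ := surjective_projS g sq C L n hg F hF q hq ξ
  exact (congrArg _ (Subsingleton.elim η 0)).trans (map_zero _)

end EtStrictAcycLib
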