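import Groth.Agent.EtStrictAcycLib.Fibre
import Groth.Agent.EtSliceLib.MV

/-!
# Connectedness from constant global sections
-/

set_option autoImplicit false
set_option linter.unusedSectionVars false
set_option linter.style.haveILetI false
set_option backward.isDefEq.respectTransparency false
set_option backward.isDefEq.respectTransparency.types false
set_option synthInstance.maxHeartbeats 400000
set_option maxHeartbeats 1000000

universe u

open CategoryTheory CategoryTheory.Limits CategoryTheory.Abelian AlgebraicGeometry Opposite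
open Groth.Agent.EtShLib

noncomputable section

namespace EtStrictAcycLib

variable {T : Scheme.{u}} (M : Type) [AddCommGroup M]

/-- An open subscheme as an étale object. -/
abbrev openObj (U : T.Opens) : T.Etale :=
  MorphismProperty.Over.mk ⊤ U.ι (inferInstance : AlgebraicGeometry.Etale U.ι)

/-- Two constants on the pieces of a clopen decomposition glue. -/
theorem exists_injective_of_clopen (U : Set T) (hU : IsClopen U) (h₁ : U.Nonempty) (h₂ : Uᶜ.Nonempty) :
    ∃ f : M × M → (EtCoh.const T M).obj.obj (op (EtCoh.top T)), Function.Injective f := by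
  let A : T.Opens := ⟨U, hU.2⟩
  let B : T.Opens := ⟨Uᶜ, hU.1.isOpen_compl⟩
  let G := EtCoh.const T M
  let i : openObj (⊥ : T.Opens) ⟶ openObj A :=
    MorphismProperty.Over.homMk (T.homOfLE (bot_le : (⊥ : T.Opens) ≤ A)) (T.homOfLE_ι bot_le)
  let j : openObj (⊥ : T.Opens) ⟶ openObj B :=
    MorphismProperty.Over.homMk (T.homOfLE (bot_le : (⊥ : T.Opens) ≤ B)) (T.homOfLE_ι bot_le)
  haveI : IsOpenImmersion i.left := inferInstanceAs (IsOpenImmersion (T.homOfLE (bot_le : (⊥ : T.Opens) ≤ A)))
  haveI : IsOpenImmersion (toTop (openObj A)).left := inferInstanceAs (IsOpenImmersion A.ι)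
  haveI : IsOpenImmersion (toTop (openObj B)).left := inferInstanceAs (IsOpenImmersion B.ι)
  haveI : IsEmpty (openObj (⊥ : T.Opens)).left := ⟨fun x => x.2⟩
  haveI := subsingleton_sect_of_isEmpty G (openObj (⊥ : T.Opens))
  haveI : Nonempty (openObj A).left := ⟨⟨h₁.some, h₁.some_mem⟩⟩
  haveI : Nonempty (openObj B).left := ⟨⟨h₂.some, h₂.some_mem⟩⟩
  have hA : Set.range (toTop (openObj A)).left.base = U := Scheme.Opens.range_ι A
  have hB : Set.range (toTop (openObj B)).left.base = Uᶜ := Scheme.Opens.range_ι B
  have hglue : ∀ m : M × M, ∃ g : G.obj.obj (op (EtCoh.top T)),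
      G.obj.map (toTop (openObj A)).op g = G.obj.map (toTop (openObj A)).op (cstUnit T (AddCommGrpCat.of (ULift.{u + 1} M)) ⟨m.1⟩) ∧
      G.obj.map (toTop (openObj B)).op g = G.obj.map (toTop (openObj B)).op (cstUnit T (AddCommGrpCat.of (ULift.{u + 1} M)) ⟨m.2⟩) := fun m =>
    (EtSliceLib.existsUnique_glue i j (toTop (openObj A)) (toTop (openObj B))
      (MorphismProperty.Over.Hom.ext ((T.homOfLE_ι bot_le).trans (T.homOfLE_ι bot_le).symm))
      (by rw [hA, hB]; exact Set.union_compl_self U)
      (by rw [hA, hB, Set.inter_compl_self]; exact Set.empty_subset _)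
      G _ _ (Subsingleton.elim _ _)).exists
  choose f hf using hglue
  refine ⟨f, fun m m' h => ?_⟩
  have key : ∀ (Z : T.Etale) [Nonempty Z.left] (a b : M),
      G.obj.map (toTop Z).op (cstUnit T (AddCommGrpCat.of (ULift.{u + 1} M)) ⟨a⟩) = G.obj.map (toTop Z).op (cstUnit T (AddCommGrpCat.of (ULift.{u + 1} M)) ⟨b⟩) → a = b := by
    intro Z _ a b e
    by_contra hab
    refine const_one_ne_zero M (a - b) (sub_ne_zero.2 hab) Z ?_
    have e1 : (cstUnit T (AddCommGrpCat.of (ULift.{u + 1} M))) ⟨a - b⟩ =
        cstUnit T (AddCommGrpCat.of (ULift.{u + 1} M)) ⟨a⟩ - cstUnit T (AddCommGrpCat.of (ULift.{u + 1} M)) ⟨b⟩ :=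
      map_sub _ (ULift.up a : ULift.{u + 1} M) (ULift.up b)
    rw [e1, map_sub, e]
    exact sub_self _
  refine Prod.ext (key (openObj A) _ _ ?_) (key (openObj B) _ _ ?_)
  · rw [← (hf m).1, ← (hf m').1, h]
  · rw [← (hf m).2, ← (hf m').2, h]

/-- A scheme whose constant global sections are constant is nonempty and connected. -/
theorem connected_of_sections [Finite M] [Nontrivial M]
    (e : EtCoh.H T (EtCoh.const T M) 0 → M) (he : Function.Bijective e) : Nonempty T ∧ ConnectedSpace T := by
  have hne : Nonempty T := by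
    by_contra h
    rw [not_nonempty_iff] at h
    haveI : IsEmpty (EtCoh.top T).left := h
    haveI := subsingleton_sect_of_isEmpty (EtCoh.const T M) (EtCoh.top T)
    haveI : Subsingleton (EtCoh.H T (EtCoh.const T M) 0) := EtContLib.sec_injective.subsingleton
    haveI : Subsingleton M := he.2.subsingleton
    exact false_of_nontrivial_of_subsingleton M
  refine ⟨hne, ?_⟩
  rw [connectedSpace_iff_clopen]
  refine ⟨hne, fun U hU => ?_⟩
  by_contra h
  push Not at h
  obtain ⟨f, hf⟩ := exists_injective_of_clopen M U hU h.1 (Set.nonempty_compl.2 h.2)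
  haveI := Fintype.ofFinite M
  choose s hs using fun m => EtContLib.sec_surjective (f m)
  have hs' : Function.Injective (fun m => e (s m)) := fun m m' h => hf (by
    rw [← hs m, ← hs m', he.1 h])
  have h1 := Fintype.card_le_of_injective _ hs'
  rw [Fintype.card_prod] at h1
  have h2 : 1 < Fintype.card M := Fintype.one_lt_card
  nlinarith

/-- Sections of a constant sheaf on a separably closed point. -/
theorem exists_bijective_point (k : Type u) [Field k] [IsSepClosed k] :
    ∃ e : EtCoh.H (Spec (CommRingCat.of k)) (EtCoh.const (Spec (CommRingCat.of k)) M) 0 → M, Function.Bijective e := by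
  haveI := isSepClosed_residue k
  let A : AddCommGrpCat.{u + 1} := AddCommGrpCat.of (ULift.{u + 1} M)
  haveI := isCst_cstUnit (X := Spec (CommRingCat.of k)) A _ (closedPt k) (topPt k)
  have hb : Function.Bijective (cstUnit (Spec (CommRingCat.of k)) A) := by
    refine (Function.Bijective.of_comp_iff' (bijective_germ_top k (EtCoh.const (Spec (CommRingCat.of k)) M)) _).1 ?_
    have h := ConcreteCategory.bijective_of_isIso (cstUnit (Spec (CommRingCat.of k)) A ≫
      germ (closedPt k) (EtCoh.const (Spec (CommRingCat.of k)) M) (EtCoh.top _) (topPt k))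
    exact h
  let E := (Equiv.ofBijective _ (⟨EtContLib.sec_injective, EtContLib.sec_surjective⟩ :
    Function.Bijective (EtContLib.sec (G := EtCoh.const (Spec (CommRingCat.of k)) M)))).trans
    ((Equiv.ofBijective _ hb).symm.trans Equiv.ulift)
  exact ⟨E, E.bijective⟩

end EtStrictAcycLib
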